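import Cfsg.Agent.SquarefreeDegrees.Basic
import Cfsg.Agent.FrattiniTheory.Basic

/-!
# Solvable groups with squarefree degrees have derived length at most four
-/

set_option autoImplicit false
set_option linter.unusedSectionVars false
set_option linter.style.haveILetI false

namespace CfsgLib.SquarefreeDegrees

open CfsgLib.Characters CfsgLib.TwoDegrees73
open scoped commutatorElement

universe u

variable {G : Type u} [Group G] [Fintype G]

/-- Conjugation on the linear characters of a normal subgroup. -/
@[reducible] def dualAction (H : Subgroup G) [H.Normal] (S : Subgroup G) :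
    MulDistribMulAction S (H →* ℂˣ) where
  smul s lam := lam.comp (MulAut.conjNormal (H := H) ((s : G)⁻¹)).toMonoidHom
  one_smul lam := MonoidHom.ext fun n => congrArg lam (Subtype.ext (by simp))
  mul_smul s t lam := MonoidHom.ext fun n => congrArg lam (Subtype.ext (by
    simp [mul_assoc]))
  smul_mul s a b := MonoidHom.ext fun n => rfl
  smul_one s := MonoidHom.ext fun n => rfl

theorem relIndex_eq_card_map (F M : Subgroup G) [F.Normal] :
    F.relIndex M = Nat.card (M.map (QuotientGroup.mk' F)) := by
  conv_lhs => rw [← QuotientGroup.ker_mk' F]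
  rw [Subgroup.relIndex_ker]

set_option maxHeartbeats 800000 in
/-- Modulo the Fitting subgroup every `p`-core has order at most `p`. -/
theorem card_pCore_quotient_dvd [Group.IsSolvable G] (h : SQ G) (F : Subgroup G) [F.Normal]
    (hF : F = Cfsg.fittingSubgroup G) {p : ℕ} [hp : Fact p.Prime] :
    Nat.card (Cfsg.pCore p (G ⧸ F)) ∣ p := by
  classical
  haveI := Solvable.pCore_normal (G := G ⧸ F) p
  haveI := Solvable.pCore_normal (G := G) p
  set f := QuotientGroup.mk' F with hf
  set O := Cfsg.pCore p (G ⧸ F) with hO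
  set M : Subgroup G := O.comap f with hM
  haveI : M.Normal := inferInstanceAs (O.comap f).Normal
  haveI : (Cfsg.pPrimeCore p G).Normal := (SelfCentralizing.core_spec (G := G) p).1
  set H : Subgroup G := Cfsg.pPrimeCore p G ⊓ F with hH
  haveI : H.Normal := inferInstanceAs (Cfsg.pPrimeCore p G ⊓ F).Normal
  have hHc : (Nat.card H).Coprime p :=
    Nat.Coprime.coprime_dvd_left (Subgroup.card_dvd_of_le inf_le_left)
      (SelfCentralizing.core_spec (G := G) p).2
  have hFM : F ≤ M := fun x hx => by
    rw [hM, Subgroup.mem_comap, hf, QuotientGroup.mk'_apply, (QuotientGroup.eq_one_iff x).2 hx]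
    exact one_mem _
  haveI hFn : Group.IsNilpotent F := by rw [hF]; exact Solvable.fittingSubgroup_isNilpotent
  -- the decomposition of the Fitting subgroup
  have hdec : F ≤ Cfsg.pCore p G ⊔ H := by
    conv_lhs => rw [hF, Solvable.fittingSubgroup_eq_iSup]
    refine iSup_le fun q => ?_
    haveI := Fact.mk q.2
    by_cases hqp : (q : ℕ) = p
    · rw [hqp]; exact le_sup_left
    · refine le_trans (le_inf ?_ (hF ▸ Solvable.pCore_le_fittingSubgroup _)) le_sup_right
      refine SelfCentralizing.le_core p (Solvable.pCore_normal _) ?_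
      obtain ⟨k, hk⟩ := IsPGroup.iff_card.1 (Solvable.isPGroup_pCore (G := G) (q : ℕ))
      rw [hk]
      exact Nat.Coprime.pow_left k ((Nat.coprime_primes q.2 hp.out).2 hqp)
  have hOc : ∀ a ∈ Cfsg.pCore p G, ∀ b ∈ H, a * b = b * a := by
    intro a ha b hb
    refine Subgroup.commute_of_normal_of_disjoint _ _ (Solvable.pCore_normal p) inferInstance ?_ a b ha hb
    rw [disjoint_iff]
    obtain ⟨k, hk⟩ := IsPGroup.iff_card.1 (Solvable.isPGroup_pCore (G := G) p)
    exact disjoint_iff.1 (Subgroup.disjoint_of_coprime_natCard (by rw [hk]; exact (hHc.symm.pow_left k)))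
  -- a Sylow subgroup of `M` covers the core
  obtain ⟨R⟩ : Nonempty (Sylow p M) := inferInstance
  set S : Subgroup G := (R : Subgroup M).map M.subtype with hS
  have hSp : IsPGroup p S := R.isPGroup'.map _
  have hSM : S ≤ M := Subgroup.map_subtype_le _
  have hcover : O ≤ S.map f := by
    let g : M →* O := (f.comp M.subtype).codRestrict O fun x => x.2
    have hg : Function.Surjective g := by
      rintro ⟨y, hy⟩
      obtain ⟨x, rfl⟩ := QuotientGroup.mk'_surjective F y
      exact ⟨⟨x, hy⟩, rfl⟩
    have htop : ((R.mapSurjective hg : Sylow p O) : Subgroup O) = ⊤ := by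
      refine Subgroup.eq_top_of_card_eq _ ?_
      obtain ⟨k, hk⟩ := IsPGroup.iff_card.1 (Solvable.isPGroup_pCore (G := G ⧸ F) p)
      rw [Sylow.card_eq_multiplicity, hk, Nat.factorization_pow, Finsupp.smul_apply,
        hp.out.factorization_self, smul_eq_mul, mul_one]
    intro y hy
    obtain ⟨x, hx, hxy⟩ : (⟨y, hy⟩ : O) ∈ ((R.mapSurjective hg : Sylow p O) : Subgroup O) :=
      htop ▸ Subgroup.mem_top _
    exact ⟨x, ⟨x, hx, rfl⟩, congrArg Subtype.val hxy⟩
  -- orbits of length at most `p` on the linear characters of `H`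
  letI := dualAction H S
  have hFT : ∀ lam : H →* ℂˣ, F ≤ stab H lam := by
    intro lam x hx
    obtain ⟨a, ha, b, hb, rfl⟩ := Subgroup.mem_sup_of_normal_left.1 (hdec hx)
    refine mul_mem (fun n => congrArg lam (Subtype.ext ?_)) fun n => ?_
    · show a * (n : G) * a⁻¹ = n
      rw [hOc a ha n n.2, mul_inv_cancel_right]
    · rw [show (⟨b * n * b⁻¹, _⟩ : H) = ⟨b, hb⟩ * n * ⟨b, hb⟩⁻¹ from Subtype.ext rfl, map_mul,
        map_mul, map_inv, mul_comm, inv_mul_cancel_left]
  have hidx : ∀ lam : H →* ℂˣ, (MulAction.stabilizer S lam).index ∣ p := by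
    intro lam
    set T := stab H lam with hT
    have hst : MulAction.stabilizer S lam = T.subgroupOf S := by
      ext s
      rw [MulAction.mem_stabilizer_iff, Subgroup.mem_subgroupOf, hT, mem_stab]
      constructor
      · intro e n
        have := DFunLike.congr_fun e (⟨(s : G) * n * (s : G)⁻¹, (inferInstance : H.Normal).conj_mem n n.2 s⟩ : H)
        refine this.symm.trans (congrArg lam (Subtype.ext ?_))
        simp [mul_assoc]
      · intro e
        refine MonoidHom.ext fun n => ?_
        refine ((e ((MulAut.conjNormal (H := H) ((s : G)⁻¹)) n)).symm.trans (congrArg lam ?_))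
        exact Subtype.ext (by simp [mul_assoc])
    have hHM : H ≤ M := inf_le_right.trans hFM
    haveI : (H.subgroupOf M).Normal := Subgroup.normal_subgroupOf
    haveI := Fintype.ofFinite M
    let lam' : H.subgroupOf M →* ℂˣ := lam.comp (Subgroup.subgroupOfEquivOfLe hHM).toMonoidHom
    have hst' : stab (H.subgroupOf M) lam' = T.subgroupOf M := by
      ext m
      rw [mem_stab, Subgroup.mem_subgroupOf, hT, mem_stab]
      constructor
      · intro e n
        exact e ⟨⟨n, hHM n.2⟩, Subgroup.mem_subgroupOf.2 n.2⟩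
      · intro e n
        exact e (Subgroup.subgroupOfEquivOfLe hHM n)
    have hsq : Squarefree (T.relIndex M) := by
      have := index_stab_squarefree (sq_normal h M) (H.subgroupOf M) lam'
      rwa [hst'] at this
    have hdvd : T.relIndex M ∣ Nat.card O := by
      refine (Subgroup.relIndex_dvd_of_le_left M (hFT lam)).trans ?_
      rw [relIndex_eq_card_map F M, hM,
        Subgroup.map_comap_eq_self_of_surjective (QuotientGroup.mk'_surjective F)]
    have hle : T.relIndex M ∣ p := by
      obtain ⟨k, hk⟩ := IsPGroup.iff_card.1 (Solvable.isPGroup_pCore (G := G ⧸ F) p)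
      rw [hO, hk] at hdvd
      obtain ⟨i, -, hi⟩ := (Nat.dvd_prime_pow hp.out).1 hdvd
      rw [hi] at hsq ⊢
      rcases i with _ | _ | i
      · simp
      · simp
      · exact absurd (Nat.isUnit_iff.1 (hsq p ⟨p ^ i, by ring⟩)) hp.out.ne_one
    rw [hst]
    show T.relIndex S ∣ p
    obtain ⟨k, hk⟩ := IsPGroup.iff_card.1 hSp
    obtain ⟨i, -, hi⟩ := (Nat.dvd_prime_pow hp.out).1 (hk ▸ Subgroup.relIndex_dvd_card T S)
    have h2 := (Subgroup.relIndex_le_of_le_right (H := T) hSM Subgroup.index_ne_zero_of_finite).trans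
      (Nat.le_of_dvd hp.out.pos hle)
    rw [hi] at h2 ⊢
    calc p ^ i ∣ p ^ 1 := pow_dvd_pow p ((Nat.pow_le_pow_iff_right hp.out.one_lt).1 (by simpa using h2))
      _ = p := pow_one p
  obtain ⟨K, hKi, hKfix⟩ := exists_common_stabilizer hSp (V := H →* ℂˣ) (fun c hc => by
    refine MonoidHom.ext fun n => ?_
    rw [MonoidHom.one_apply, ← orderOf_eq_one_iff]
    refine Nat.eq_one_of_dvd_coprimes hHc ((orderOf_map_dvd c n).trans (orderOf_dvd_natCard n)) ?_
    exact orderOf_dvd_of_pow_eq_one (DFunLike.congr_fun hc n)) hidx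
  -- the common stabiliser centralises `H`
  set A : Subgroup G := K.map S.subtype with hA
  haveI : Group.IsNilpotent H :=
    Group.nilpotent_of_mulEquiv (Subgroup.subgroupOfEquivOfLe (inf_le_right : H ≤ F))
  have hAH : A ≤ Subgroup.normalizer (H : Set G) := Subgroup.le_normalizer_of_normal
  have hcom : ⁅H, A⁆ ≤ (frattini H).map H.subtype := by
    rw [Subgroup.commutator_le]
    rintro n hn _ ⟨a, ha, rfl⟩
    set s : G := (a : G)
    have hmem : s * n⁻¹ * s⁻¹ ∈ H := (inferInstance : H.Normal).conj_mem _ (inv_mem hn) s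
    set c : H := ⟨n, hn⟩ * ⟨s * n⁻¹ * s⁻¹, hmem⟩ with hc
    refine ⟨c, FrattiniTheory.commutator_le_frattini_of_nilpotent ?_, ?_⟩
    · rw [← Abelianization.ker_of, MonoidHom.mem_ker]
      refine eq_of_forall_hom fun mu => ?_
      rw [map_one]
      let lam : H →* ℂˣ := mu.comp Abelianization.of
      have h1 := DFunLike.congr_fun (hKfix a⁻¹ (inv_mem ha) lam) (⟨n⁻¹, inv_mem hn⟩ : H)
      have h2 : lam ⟨s * n⁻¹ * s⁻¹, hmem⟩ = lam ⟨n⁻¹, inv_mem hn⟩ :=
        (congrArg lam (Subtype.ext (by simp [s, MulAut.conjNormal_apply, mul_assoc]))).trans h1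
      show lam c = 1
      rw [hc, map_mul, h2, ← map_mul]
      exact (congrArg lam (Subtype.ext (mul_inv_cancel n))).trans (map_one lam)
    · show n * (s * n⁻¹ * s⁻¹) = ⁅n, s⁆
      rw [commutatorElement_def]; group
  have hcent : A ≤ Subgroup.centralizer (H : Set G) := by
    refine CfsgLib.Coprime.le_centralizer_of_commutator_le_frattini hAH ?_ hcom
    obtain ⟨k, hk⟩ := IsPGroup.iff_card.1 ((hSp.to_subgroup K).map S.subtype)
    rw [hA, hk]
    exact (Nat.Coprime.coprime_dvd_left (Subgroup.card_subgroup_dvd_card _) hHc).symm.pow_left k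
  -- so it lies in the Fitting subgroup
  set C : Subgroup G := M ⊓ Subgroup.centralizer (H : Set G) with hC
  haveI : C.Normal := inferInstanceAs (M ⊓ Subgroup.centralizer (H : Set G)).Normal
  have hCF : C ≤ F := by
    let Z : Subgroup C := H.subgroupOf C
    haveI : Z.Normal := Subgroup.normal_subgroupOf
    have hq : IsPGroup p (C ⧸ Z) := by
      intro x
      obtain ⟨⟨x, hx⟩, rfl⟩ := QuotientGroup.mk_surjective x
      obtain ⟨i, hi⟩ := Solvable.isPGroup_pCore (G := G ⧸ F) p ⟨f x, (Subgroup.mem_inf.1 hx).1⟩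
      have hxF : x ^ p ^ i ∈ F := by
        rw [← QuotientGroup.eq_one_iff, QuotientGroup.mk_pow]
        exact congrArg Subtype.val hi
      obtain ⟨a, ha, b, hb, hab⟩ := Subgroup.mem_sup_of_normal_left.1 (hdec hxF)
      obtain ⟨j, hj⟩ := Solvable.isPGroup_pCore (G := G) p ⟨a, ha⟩
      refine ⟨i + j, ?_⟩
      rw [← QuotientGroup.mk_pow, QuotientGroup.eq_one_iff]
      show x ^ p ^ (i + j) ∈ H
      rw [pow_add, pow_mul, ← hab, Commute.mul_pow (hOc a ha b hb),
        show a ^ p ^ j = 1 from congrArg Subtype.val hj, one_mul]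
      exact pow_mem hb _
    haveI : Group.IsNilpotent (C ⧸ Z) := hq.isNilpotent
    haveI : Group.IsNilpotent C := by
      refine Subgroup.isNilpotent_of_ker_le_center (QuotientGroup.mk' Z) ?_
      rw [QuotientGroup.ker_mk']
      intro z hz
      rw [Subgroup.mem_center_iff]
      intro w
      refine Subtype.ext ?_
      exact (Subgroup.mem_centralizer_iff.1 (Subgroup.mem_inf.1 w.2).2 z (Subgroup.mem_subgroupOf.1 hz)).symm
    rw [hF]
    exact Solvable.le_fittingSubgroup ‹_›
  -- count
  have hKF : K ≤ F.subgroupOf S := fun k hk => hCF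
    (Subgroup.mem_inf.2 ⟨hSM k.2, hcent (Subgroup.mem_map_of_mem S.subtype hk)⟩)
  calc Nat.card O ∣ Nat.card (S.map f) := Subgroup.card_dvd_of_le hcover
    _ = F.relIndex S := (relIndex_eq_card_map F S).symm
    _ ∣ K.index := Subgroup.index_dvd_of_le hKF
    _ ∣ p := hKi

/-- A solvable group with squarefree degrees has derived length at most four. -/
theorem derivedSeries_four [Group.IsSolvable G] (h : SQ G) : derivedSeries G 4 = ⊥ := by
  classical
  set F := Cfsg.fittingSubgroup G with hF
  haveI : F.Normal := Solvable.fittingSubgroup_normal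
  haveI := Fintype.ofFinite F
  haveI hFn : Group.IsNilpotent F := Solvable.fittingSubgroup_isNilpotent
  set W := Cfsg.fittingSubgroup (G ⧸ F) with hW
  haveI : W.Normal := Solvable.fittingSubgroup_normal
  haveI : Group.IsNilpotent W := Solvable.fittingSubgroup_isNilpotent
  haveI : IsZGroup W := by
    refine ⟨fun p hp P => ?_⟩
    haveI := Fact.mk hp
    haveI : (P : Subgroup W).Normal :=
      P.normal_of_normalizerCondition Group.normalizerCondition_of_isNilpotent
    haveI : (P : Subgroup W).Characteristic := P.characteristic_of_normal inferInstance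
    haveI : ((P : Subgroup W).map W.subtype).Normal := inferInstance
    have hd := (Subgroup.card_dvd_of_le
      (Solvable.le_pCore (P.isPGroup'.map W.subtype))).trans (card_pCore_quotient_dvd h F hF)
    rw [Subgroup.card_subtype] at hd
    rcases (Nat.dvd_prime hp).1 hd with h1 | h1
    · haveI := (Nat.card_eq_one_iff_unique.1 h1).1
      infer_instance
    · exact isCyclic_of_prime_card h1
  haveI : IsCyclic W := inferInstance
  have hcc : commutator (G ⧸ F) ≤ W := by
    refine le_trans ?_ Solvable.centralizer_fittingSubgroup_le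
    rw [commutator_def, Subgroup.commutator_le]
    intro x _ y _
    rw [Subgroup.mem_centralizer_iff]
    intro w hw
    have h1 : MulAut.conjNormal (H := W) ⁅x, y⁆ = 1 := by
      rw [map_commutatorElement, commutatorElement_eq_one_iff_mul_comm]
      exact CfsgLib.FusionEssential.mulAut_commute_of_isCyclic _ _
    have h2 := congrArg Subtype.val (DFunLike.congr_fun h1 (⟨w, hw⟩ : W))
    rw [MulAut.conjNormal_apply] at h2
    exact (mul_inv_eq_iff_eq_mul.1 h2).symm
  have h2 : derivedSeries (G ⧸ F) 2 = ⊥ := by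
    rw [eq_bot_iff, derivedSeries_succ, derivedSeries_one, Subgroup.commutator_le]
    intro x hx y hy
    rw [Subgroup.mem_bot, commutatorElement_eq_one_iff_mul_comm]
    letI := IsCyclic.commGroup (α := W)
    exact congrArg Subtype.val (mul_comm (⟨x, hcc hx⟩ : W) ⟨y, hcc hy⟩)
  have hle : derivedSeries G 2 ≤ F := fun x hx => by
    have := map_derivedSeries_le_derivedSeries (QuotientGroup.mk' F) 2 (Subgroup.mem_map_of_mem _ hx)
    rw [h2, Subgroup.mem_bot] at this
    exact (QuotientGroup.eq_one_iff x).1 this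
  have h3 : derivedSeries G 3 ≤ ⁅F, F⁆ := Subgroup.commutator_mono hle hle
  refine eq_bot_iff.2 ((Subgroup.commutator_mono h3 h3).trans ?_)
  have h4 := derivedSeries_two_of_isNilpotent (sq_normal h F)
  rw [derivedSeries_succ, derivedSeries_one] at h4
  have h5 := congrArg (Subgroup.map F.subtype) h4
  rw [Subgroup.map_commutator, Subgroup.map_subtype_commutator, Subgroup.map_bot] at h5
  exact h5.le

end CfsgLib.SquarefreeDegrees
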