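import Cfsg.Agent.TwoDegrees73.Basic
import Cfsg.Agent.Solvable.Fitting
import Cfsg.Agent.SelfCentralizing.Basic
import Cfsg.Agent.Coprime.Action
import Cfsg.Agent.FusionEssential.Aut
import Mathlib.GroupTheory.SpecificGroups.ZGroup

/-!
# Solvable groups with squarefree character degrees

The Fitting subgroup is metabelian and the quotient by it is metabelian.
-/

set_option autoImplicit false
set_option linter.unusedSectionVars false
set_option linter.style.haveILetI false

namespace CfsgLib.SquarefreeDegrees

open CfsgLib.Characters CfsgLib.CharactersDeep CfsgLib.OddOrderChar CfsgLib.TwoDegrees73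
open scoped commutatorElement

universe u

/-- All irreducible degrees are squarefree. -/
def SQ (G : Type u) [Group G] : Prop :=
  ∀ (χ : G → ℂ) (d : ℕ), Cfsg.IsIrrCharacter G χ → χ 1 = d → Squarefree d

variable {G : Type u} [Group G] [Fintype G]

/-- The index of an inertia group is squarefree. -/
theorem index_stab_squarefree (h : SQ G) (N : Subgroup G) [N.Normal] (lam : N →* ℂˣ) :
    Squarefree (stab N lam).index := by
  classical
  haveI := Fintype.ofFinite N
  obtain ⟨χ, hχ, hne⟩ := CharactersDeep.Clifford.exists_over N (isIrr_linChar lam)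
  have hd := clifford_degree N hχ (isIrr_linChar lam) (stab N lam)
    (fun g => mem_stab_iff_conjBy N) hne
  obtain ⟨e, he⟩ := classInner_character_irr (isCharacter_restrict N (isCharacter_of_isIrr hχ))
    (isIrr_linChar lam)
  simp only [he, map_one, Units.val_one, mul_one] at hd
  have hs := h χ (e * (stab N lam).index) hχ (by rw [hd, Nat.cast_mul])
  exact hs.squarefree_of_dvd (dvd_mul_left _ _)

/-- A normal subgroup inherits squarefree degrees. -/
theorem sq_normal (h : SQ G) (N : Subgroup G) [N.Normal] : SQ N := by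
  classical
  haveI := Fintype.ofFinite N
  intro θ d hθ hd
  obtain ⟨χ, hχ, hne⟩ := CharactersDeep.Clifford.exists_over N hθ
  let T : Subgroup G :=
    { carrier := {g | conjBy N θ g = θ}
      one_mem' := conjBy_one N θ
      mul_mem' := fun {a b} ha hb => by
        show conjBy N θ (a * b) = θ
        rw [← conjBy_mul N θ]
        simp only [Set.mem_ofPred_eq] at ha hb
        rw [ha, hb]
      inv_mem' := fun {a} ha => by
        show conjBy N θ a⁻¹ = θ
        simp only [Set.mem_ofPred_eq] at ha
        conv_lhs => rw [← ha, conjBy_mul N θ, mul_inv_cancel, conjBy_one N θ] }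
  have hdeg := clifford_degree N hχ hθ T (fun g => Iff.rfl) hne
  obtain ⟨e, he⟩ := classInner_character_irr (isCharacter_restrict N (isCharacter_of_isIrr hχ)) hθ
  rw [he, hd] at hdeg
  have hs := h χ (e * (T.index * d)) hχ (by rw [hdeg, Nat.cast_mul, Nat.cast_mul])
  exact hs.squarefree_of_dvd ((dvd_mul_left d _).trans (dvd_mul_left _ _))

/-- A `p`-group with squarefree degrees is metabelian. -/
theorem derivedSeries_two_of_isPGroup {p : ℕ} [hp : Fact p.Prime] {P : Type u} [Group P] [Fintype P]
    (hP : IsPGroup p P) (h : SQ P) : derivedSeries P 2 = ⊥ := by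
  classical
  rw [derivedSeries_succ, derivedSeries_one, Subgroup.commutator_eq_bot_iff_le_centralizer]
  have h2 : Two P p := by
    intro χ hχ
    obtain ⟨d, -, hd⟩ := exists_degree_pos hχ
    have hdd' : d ∣ Nat.card P := by
      obtain ⟨n, ρ, hirr, hρ⟩ := hχ
      haveI := hirr
      have h1 := CfsgLib.Characters.finrank_dvd_card ρ
      rw [← hρ, Representation.char_one] at hd
      have : Module.finrank ℂ (Fin n → ℂ) = d := by exact_mod_cast hd
      rwa [this] at h1
    obtain ⟨k, hk⟩ := IsPGroup.iff_card.1 hP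
    obtain ⟨i, -, rfl⟩ := (Nat.dvd_prime_pow hp.out).1 (hk ▸ hdd')
    have hs := h χ _ hχ hd
    rcases Nat.lt_or_ge i 2 with hi | hi
    · interval_cases i
      · left; simpa using hd
      · right; simpa using hd
    · exfalso
      exact hp.out.one_lt.ne' (Nat.isUnit_iff.1 (hs p (by rw [← pow_two]; exact pow_dvd_pow p hi)))
  intro a ha
  rw [Subgroup.mem_centralizer_iff]
  intro b hb
  by_cases hm : ∃ χ, Cfsg.IsIrrCharacter P χ ∧ χ 1 = (p : ℂ)
  · exact commutator_abelian h2 hm hp.out.ne_one b hb a ha
  · have htop : commutator P = ⊥ := by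
      refine eq_bot_iff.2 ?_
      refine commutator_le_of_index_le ⊥ fun χ d hχ hd hd1 => ?_
      exfalso
      rcases h2 χ hχ with h1 | h1
      · exact hd1 (by exact_mod_cast hd.symm.trans h1)
      · exact hm ⟨χ, hχ, h1⟩
    rw [htop] at ha hb
    rw [Subgroup.mem_bot] at ha
    rw [SetLike.mem_coe, Subgroup.mem_bot] at hb
    rw [ha, hb]

/-- A nilpotent group with squarefree degrees is metabelian. -/
theorem derivedSeries_two_of_isNilpotent [Group.IsNilpotent G] (h : SQ G) :
    derivedSeries G 2 = ⊥ := by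
  classical
  have hn : ∀ {p : ℕ} [Fact p.Prime] (P : Sylow p G), P.Normal := fun {p} _ P =>
    P.normal_of_normalizerCondition Group.normalizerCondition_of_isNilpotent
  let e := Sylow.directProductOfNormal (G := G) hn
  rw [Subgroup.eq_bot_iff_forall]
  intro x hx
  refine e.symm.injective (funext fun p => funext fun P => ?_)
  haveI : Fact (p : ℕ).Prime := ⟨Nat.prime_of_mem_primeFactors p.2⟩
  haveI := hn P
  haveI := Fintype.ofFinite P
  let f : G →* P := ((Pi.evalMonoidHom (fun P : Sylow p G => ↥P) P).comp
    (Pi.evalMonoidHom (fun p : (Nat.card G).primeFactors => ∀ P : Sylow p G, ↥P) p)).comp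
    e.symm.toMonoidHom
  have h1 : f x ∈ derivedSeries P 2 :=
    map_derivedSeries_le_derivedSeries f 2 (Subgroup.mem_map_of_mem f hx)
  have h2 : derivedSeries P 2 = ⊥ :=
    derivedSeries_two_of_isPGroup P.isPGroup' (sq_normal h (P : Subgroup G))
  rw [h2, Subgroup.mem_bot] at h1
  rw [map_one]
  exact h1

/-- A point of an abelian group moved by a coprime `p`-group with orbits of length at most `p`. -/
theorem exists_common_stabilizer {p : ℕ} [hp : Fact p.Prime] {S : Type*} [Group S] [Finite S]
    (hS : IsPGroup p S) {V : Type*} [CommGroup V] [MulDistribMulAction S V]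
    (hcop : ∀ c : V, c ^ p = 1 → c = 1)
    (hidx : ∀ v : V, (MulAction.stabilizer S v).index ∣ p) :
    ∃ K : Subgroup S, K.index ∣ p ∧ ∀ k ∈ K, ∀ v : V, k • v = v := by
  classical
  by_cases hall : ∀ v : V, MulAction.stabilizer S v = ⊤
  · exact ⟨⊤, by simp, fun k _ v => MulAction.mem_stabilizer_iff.1 (hall v ▸ Subgroup.mem_top k)⟩
  push Not at hall
  obtain ⟨v, hv⟩ := hall
  set K := MulAction.stabilizer S v
  refine ⟨K, hidx v, fun k hk w => ?_⟩
  by_contra hkw
  set L := MulAction.stabilizer S w with hL
  have hprop : ∀ x : V, MulAction.stabilizer S x ≠ ⊤ →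
      (MulAction.stabilizer S x).index = p ∧ (MulAction.stabilizer S x).Normal := by
    intro x hx
    have h1 : (MulAction.stabilizer S x).index = p := by
      rcases (Nat.dvd_prime hp.out).1 (hidx x) with h | h
      · exact absurd (Subgroup.index_eq_one.1 h) hx
      · exact h
    refine ⟨h1, Subgroup.normal_of_index_eq_minFac_card ?_⟩
    obtain ⟨n, hn⟩ := IsPGroup.iff_card.1 hS
    rw [h1, hn, Nat.pow_minFac ?_, hp.out.minFac_eq]
    rintro rfl
    rw [pow_zero] at hn
    have := (MulAction.stabilizer S x).index_dvd_card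
    rw [h1, hn, Nat.dvd_one] at this
    exact hp.out.ne_one this
  have hmax : ∀ {A B : Subgroup S}, A.index = p → B.index = p → A ≤ B → A = B := fun hA hB hle =>
    Subgroup.eq_of_le_of_card_ge hle (by
      refine le_of_eq (Nat.eq_of_mul_eq_mul_right hp.out.pos ?_)
      conv_lhs => rw [← hB, Subgroup.card_mul_index]
      conv_rhs => rw [← hA, Subgroup.card_mul_index])
  have hLne : L ≠ ⊤ := fun h => hkw (MulAction.mem_stabilizer_iff.1 (show k ∈ L from h ▸ Subgroup.mem_top k))
  obtain ⟨hKi, hKn⟩ := hprop v hv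
  obtain ⟨hLi, hLn⟩ := hprop w hLne
  haveI := hKn
  haveI := hLn
  have hne : K ≠ L := fun h => hkw (MulAction.mem_stabilizer_iff.1 (show k ∈ L from h ▸ hk))
  -- an element outside `K` fixing `v * w`
  obtain ⟨a, ha, haK⟩ : ∃ a, a • (v * w) = v * w ∧ a ∉ K := by
    by_contra! hsub
    have hle : MulAction.stabilizer S (v * w) ≤ K := fun a ha => hsub a ha
    have hM : MulAction.stabilizer S (v * w) ≠ ⊤ := fun h => hv (top_le_iff.1 (h ▸ hle))
    have hMK := hmax (hprop _ hM).1 hKi hle
    refine hne (hmax hKi hLi fun x hx => ?_)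
    have h1 : x • (v * w) = v * w := MulAction.mem_stabilizer_iff.1 (hMK ▸ hx : x ∈ MulAction.stabilizer S (v * w))
    rw [smul_mul', MulAction.mem_stabilizer_iff.1 hx] at h1
    exact mul_left_cancel h1
  rw [smul_mul'] at ha
  set c := a • v * v⁻¹ with hc
  have hc' : c = w * (a • w)⁻¹ := by
    rw [hc, mul_inv_eq_iff_eq_mul, eq_comm, mul_comm w, mul_assoc, inv_mul_eq_iff_eq_mul]
    rw [mul_comm (a • w), ha, mul_comm]
  have hfixK : ∀ x ∈ K, x • c = c := by
    intro x hx
    have h1 : a⁻¹ * x * a ∈ K := by
      have := hKn.conj_mem x hx a⁻¹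
      rwa [inv_inv] at this
    rw [hc, smul_mul', smul_inv', MulAction.mem_stabilizer_iff.1 hx, ← mul_smul,
      show x * a = a * (a⁻¹ * x * a) by group, mul_smul, MulAction.mem_stabilizer_iff.1 h1]
  have hfixL : ∀ x ∈ L, x • c = c := by
    intro x hx
    have h1 : a⁻¹ * x * a ∈ L := by
      have := hLn.conj_mem x hx a⁻¹
      rwa [inv_inv] at this
    rw [hc', smul_mul', smul_inv', MulAction.mem_stabilizer_iff.1 hx, ← mul_smul,
      show x * a = a * (a⁻¹ * x * a) by group, mul_smul, MulAction.mem_stabilizer_iff.1 h1]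
  have hfix : a • c = c := by
    have htop : K ⊔ L = ⊤ := by
      by_contra h
      have hdvd := Subgroup.index_dvd_of_le (le_sup_left : K ≤ K ⊔ L)
      rw [hKi] at hdvd
      rcases (Nat.dvd_prime hp.out).1 hdvd with h1 | h1
      · exact h (Subgroup.index_eq_one.1 h1)
      · exact hne ((hmax hKi h1 le_sup_left).trans (hmax hLi h1 le_sup_right).symm)
    exact MulAction.mem_stabilizer_iff.1
      ((sup_le (fun x hx => hfixK x hx) (fun x hx => hfixL x hx) :
        K ⊔ L ≤ MulAction.stabilizer S c) (htop ▸ Subgroup.mem_top a))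
  have hav : a • v = c * v := by rw [hc, inv_mul_cancel_right]
  have hpow : ∀ i : ℕ, a ^ i • v = c ^ i * v := by
    intro i
    induction i with
    | zero => simp
    | succ i ih =>
      rw [pow_succ', mul_smul, ih, smul_mul', smul_pow', hfix, hav, ← mul_assoc, ← pow_succ]
  have hapK : a ^ p ∈ K := by
    have := K.pow_index_mem a
    rwa [hKi] at this
  have hc1 : c = 1 := hcop c (by
    have h := hpow p
    rw [MulAction.mem_stabilizer_iff.1 hapK] at h
    exact (mul_eq_right.1 h.symm))
  exact haK (by rw [MulAction.mem_stabilizer_iff, hav, hc1, one_mul])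

end CfsgLib.SquarefreeDegrees
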